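import Cfsg.Agent.Lib.CosetEnum.He2058.Data
import Cfsg.Agent.Lib.CosetEnum.HeOut.Data

/-! Kernel checks of the programs. -/

set_option autoImplicit false
set_option maxRecDepth 20000
set_option Elab.async false

namespace Cfsg.Agent.Lib.CosetEnum.HeOut

open Cfsg.Agent.Lib.CosetEnum

theorem slp_part0 : allFrom 0 19 (slpAt He2058.letters.K 2058 He2058.table ops perms) = true := by decide +kernel

theorem slp_part1 : allFrom 19 19 (slpAt He2058.letters.K 2058 He2058.table ops perms) = true := by decide +kernel

theorem slp_part2 : allFrom 38 19 (slpAt He2058.letters.K 2058 He2058.table ops perms) = true := by decide +kernel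

theorem slp_part3 : allFrom 57 19 (slpAt He2058.letters.K 2058 He2058.table ops perms) = true := by decide +kernel

theorem slp_part4 : allFrom 76 19 (slpAt He2058.letters.K 2058 He2058.table ops perms) = true := by decide +kernel

theorem slp_part5 : allFrom 95 19 (slpAt He2058.letters.K 2058 He2058.table ops perms) = true := by decide +kernel

theorem slp_part6 : allFrom 114 19 (slpAt He2058.letters.K 2058 He2058.table ops perms) = true := by decide +kernel

theorem slp_part7 : allFrom 133 19 (slpAt He2058.letters.K 2058 He2058.table ops perms) = true := by decide +kernel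

theorem slp_part8 : allFrom 152 19 (slpAt He2058.letters.K 2058 He2058.table ops perms) = true := by decide +kernel

theorem slp_part9 : allFrom 171 19 (slpAt He2058.letters.K 2058 He2058.table ops perms) = true := by decide +kernel

theorem slp_part10 : allFrom 190 19 (slpAt He2058.letters.K 2058 He2058.table ops perms) = true := by decide +kernel

theorem slp_part11 : allFrom 209 19 (slpAt He2058.letters.K 2058 He2058.table ops perms) = true := by decide +kernel

theorem slp_part12 : allFrom 228 19 (slpAt He2058.letters.K 2058 He2058.table ops perms) = true := by decide +kernel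

theorem slp_part13 : allFrom 247 19 (slpAt He2058.letters.K 2058 He2058.table ops perms) = true := by decide +kernel

theorem slp_part14 : allFrom 266 19 (slpAt He2058.letters.K 2058 He2058.table ops perms) = true := by decide +kernel

theorem slp_part15 : allFrom 285 19 (slpAt He2058.letters.K 2058 He2058.table ops perms) = true := by decide +kernel

theorem slp_part16 : allFrom 304 19 (slpAt He2058.letters.K 2058 He2058.table ops perms) = true := by decide +kernel

theorem slp_part17 : allFrom 323 19 (slpAt He2058.letters.K 2058 He2058.table ops perms) = true := by decide +kernel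

theorem slp_part18 : allFrom 342 19 (slpAt He2058.letters.K 2058 He2058.table ops perms) = true := by decide +kernel

theorem slp_part19 : allFrom 361 19 (slpAt He2058.letters.K 2058 He2058.table ops perms) = true := by decide +kernel

theorem slp_part20 : allFrom 380 19 (slpAt He2058.letters.K 2058 He2058.table ops perms) = true := by decide +kernel

theorem slp_part21 : allFrom 399 19 (slpAt He2058.letters.K 2058 He2058.table ops perms) = true := by decide +kernel

theorem slp_part22 : allFrom 418 13 (slpAt He2058.letters.K 2058 He2058.table ops perms) = true := by decide +kernel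

theorem slp_ok : allBelow 431 (slpAt He2058.letters.K 2058 He2058.table ops perms) = true :=
  (allBelow_add (allBelow_add (allBelow_add (allBelow_add (allBelow_add (allBelow_add (allBelow_add (allBelow_add (allBelow_add (allBelow_add (allBelow_add (allBelow_add (allBelow_add (allBelow_add (allBelow_add (allBelow_add (allBelow_add (allBelow_add (allBelow_add (allBelow_add (allBelow_add (allBelow_add (allBelow_add (rfl : allBelow 0 (slpAt He2058.letters.K 2058 He2058.table ops perms) = true) slp_part0
    (by omega : 0 + 19 = 19)) slp_part1
    (by omega : 19 + 19 = 38)) slp_part2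
    (by omega : 38 + 19 = 57)) slp_part3
    (by omega : 57 + 19 = 76)) slp_part4
    (by omega : 76 + 19 = 95)) slp_part5
    (by omega : 95 + 19 = 114)) slp_part6
    (by omega : 114 + 19 = 133)) slp_part7
    (by omega : 133 + 19 = 152)) slp_part8
    (by omega : 152 + 19 = 171)) slp_part9
    (by omega : 171 + 19 = 190)) slp_part10
    (by omega : 190 + 19 = 209)) slp_part11
    (by omega : 209 + 19 = 228)) slp_part12
    (by omega : 228 + 19 = 247)) slp_part13
    (by omega : 247 + 19 = 266)) slp_part14
    (by omega : 266 + 19 = 285)) slp_part15
    (by omega : 285 + 19 = 304)) slp_part16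
    (by omega : 304 + 19 = 323)) slp_part17
    (by omega : 323 + 19 = 342)) slp_part18
    (by omega : 342 + 19 = 361)) slp_part19
    (by omega : 361 + 19 = 380)) slp_part20
    (by omega : 380 + 19 = 399)) slp_part21
    (by omega : 399 + 19 = 418)) slp_part22
    (by omega : 418 + 13 = 431))

theorem slpI_part0 : allFrom 0 19 (slpAt He2058.letters.K 2058 imgTable ops images) = true := by decide +kernel

theorem slpI_part1 : allFrom 19 19 (slpAt He2058.letters.K 2058 imgTable ops images) = true := by decide +kernel

theorem slpI_part2 : allFrom 38 19 (slpAt He2058.letters.K 2058 imgTable ops images) = true := by decide +kernel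

theorem slpI_part3 : allFrom 57 19 (slpAt He2058.letters.K 2058 imgTable ops images) = true := by decide +kernel

theorem slpI_part4 : allFrom 76 19 (slpAt He2058.letters.K 2058 imgTable ops images) = true := by decide +kernel

theorem slpI_part5 : allFrom 95 19 (slpAt He2058.letters.K 2058 imgTable ops images) = true := by decide +kernel

theorem slpI_part6 : allFrom 114 19 (slpAt He2058.letters.K 2058 imgTable ops images) = true := by decide +kernel

theorem slpI_part7 : allFrom 133 7 (slpAt He2058.letters.K 2058 imgTable ops images) = true := by decide +kernel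

theorem slpI_ok : allBelow 140 (slpAt He2058.letters.K 2058 imgTable ops images) = true :=
  (allBelow_add (allBelow_add (allBelow_add (allBelow_add (allBelow_add (allBelow_add (allBelow_add (allBelow_add (rfl : allBelow 0 (slpAt He2058.letters.K 2058 imgTable ops images) = true) slpI_part0
    (by omega : 0 + 19 = 19)) slpI_part1
    (by omega : 19 + 19 = 38)) slpI_part2
    (by omega : 38 + 19 = 57)) slpI_part3
    (by omega : 57 + 19 = 76)) slpI_part4
    (by omega : 76 + 19 = 95)) slpI_part5
    (by omega : 95 + 19 = 114)) slpI_part6
    (by omega : 114 + 19 = 133)) slpI_part7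
    (by omega : 133 + 7 = 140))

theorem slp3_part0 : allFrom 0 19 (slpAt 3 2058 table3 ops3 perms3) = true := by decide +kernel

theorem slp3_part1 : allFrom 19 19 (slpAt 3 2058 table3 ops3 perms3) = true := by decide +kernel

theorem slp3_part2 : allFrom 38 19 (slpAt 3 2058 table3 ops3 perms3) = true := by decide +kernel

theorem slp3_part3 : allFrom 57 19 (slpAt 3 2058 table3 ops3 perms3) = true := by decide +kernel

theorem slp3_part4 : allFrom 76 19 (slpAt 3 2058 table3 ops3 perms3) = true := by decide +kernel

theorem slp3_part5 : allFrom 95 19 (slpAt 3 2058 table3 ops3 perms3) = true := by decide +kernel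

theorem slp3_part6 : allFrom 114 19 (slpAt 3 2058 table3 ops3 perms3) = true := by decide +kernel

theorem slp3_part7 : allFrom 133 19 (slpAt 3 2058 table3 ops3 perms3) = true := by decide +kernel

theorem slp3_part8 : allFrom 152 5 (slpAt 3 2058 table3 ops3 perms3) = true := by decide +kernel

theorem slp3_ok : allBelow 157 (slpAt 3 2058 table3 ops3 perms3) = true :=
  (allBelow_add (allBelow_add (allBelow_add (allBelow_add (allBelow_add (allBelow_add (allBelow_add (allBelow_add (allBelow_add (rfl : allBelow 0 (slpAt 3 2058 table3 ops3 perms3) = true) slp3_part0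
    (by omega : 0 + 19 = 19)) slp3_part1
    (by omega : 19 + 19 = 38)) slp3_part2
    (by omega : 38 + 19 = 57)) slp3_part3
    (by omega : 57 + 19 = 76)) slp3_part4
    (by omega : 76 + 19 = 95)) slp3_part5
    (by omega : 95 + 19 = 114)) slp3_part6
    (by omega : 114 + 19 = 133)) slp3_part7
    (by omega : 133 + 19 = 152)) slp3_part8
    (by omega : 152 + 5 = 157))

theorem img_ok : allBelow He2058.letters.K (fun g =>
    Nat.blt (cert.img.getD g 0) cert.E && colIs 2058 He2058.letters.K cert.T' cert.P g (cert.img.getD g 0)) = true := by
  decide +kernel

theorem lx_ok : levelsOK cert.E 2058 cert.P (cert.lx :: cert.lxs) [] = true ∧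
    chainSize (cert.lx :: cert.lxs) = 4030387200 := by
  decide +kernel

theorem ls_ok : levelsOK cert.E 2058 cert.P (cert.lsh :: cert.lst) [] = true ∧
    chainSize (cert.lsh :: cert.lst) = 4030387200 := by
  decide +kernel

theorem bs_ok : levelsOK cert.E 2058 cert.P cert.bs [] = true ∧ chainSize cert.bs = 4030387200 := by
  decide +kernel

theorem rels_ok : He2058.letters.RL.all (fun l =>
    eqW (tab 2058 cert.P) (cert.bs.map OrbLevel.base) (l.map fun g => cert.img.getD g 0) []) = true := by
  decide +kernel

theorem img_ne : eqW (tab 2058 cert.P) (cert.bs.map OrbLevel.base) [cert.img.getD 0 0] [] = false := by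
  decide +kernel

theorem trip_ok : tripOK (tab2 2058 cert.E cert.P cert.P') (cert.bs.map OrbLevel.base) (cert.E + cert.E1)
    cert.trip = true := by
  decide +kernel

theorem cent_x : cycBase (tab2 2058 cert.E cert.P cert.P') cert.trip.x (cert.lx :: cert.lxs) = true ∧
    allBelow 2058 (centAt 2058 cert.P (tab2 2058 cert.E cert.P cert.P') cert.trip.x (cert.lx :: cert.lxs)
      cert.trip.X) = true := by
  decide +kernel

theorem cent_s : cycBase (tab2 2058 cert.E cert.P cert.P') cert.trip.s (cert.lsh :: cert.lst) = true ∧
    allBelow 2058 (centAt 2058 cert.P (tab2 2058 cert.E cert.P cert.P') cert.trip.s (cert.lsh :: cert.lst)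
      cert.trip.U) = true := by
  decide +kernel

theorem table3_ok : colIs 2058 3 cert.T3 cert.P 0 cert.trip.x = true ∧
    colIs 2058 3 cert.T3 cert.P 1 cert.trip.s = true ∧ colIs 2058 3 cert.T3 cert.P 2 cert.trip.t = true := by
  decide +kernel

theorem gen3_ok : allBelow He2058.letters.K (fun g =>
    Nat.blt (cert.gen3.getD g 0) cert.E3 && colIs 2058 He2058.letters.K He2058.table cert.P3 g (cert.gen3.getD g 0))
      = true := by
  decide +kernel

end Cfsg.Agent.Lib.CosetEnum.HeOut
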